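import Groth.Agent.DQCohEquivLib.Abstract
import Groth.Agent.KFlatLib.DerivedCoprod
import Groth.Agent.FiltSectLib.Discrete
import Groth.Agent.DerLib.KInjRes
import Groth.Agent.DerLib.Horseshoe
import Groth.Agent.SpSeqLib.AcyclicComplex
import Groth.Agent.QRlimLib.AcyclicPush
import Groth.Agent.AcycResLib.Acyclic
import Groth.Agent.DerLib.LerayAcyclic

/-!
# Unbounded complexes of acyclic objects when `RF` commutes with countable sums
-/

set_option autoImplicit false
set_option linter.style.haveILetI false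
set_option maxHeartbeats 1000000
set_option backward.isDefEq.respectTransparency false
set_option backward.defeqAttrib.useBackward true

universe w w' v v' u u'

open CategoryTheory CategoryTheory.Limits HomologicalComplex

namespace Groth.Agent.AcycSumLib

section General

/-- Natural transformations between functors preserving a coproduct. -/
theorem isIso_app_of_isColimit {C D : Type*} [Category C] [Category D] {G H : C ⥤ D} (τ : G ⟶ H)
    {J : Type*} [Category J] {P : J ⥤ C} {c : Cocone P} (hG : IsColimit (G.mapCocone c))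
    (hH : IsColimit (H.mapCocone c)) (h : ∀ j, IsIso (τ.app (P.obj j))) : IsIso (τ.app c.pt) := by
  let w : P ⋙ G ≅ P ⋙ H := NatIso.ofComponents (fun j => @asIso _ _ _ _ (τ.app (P.obj j)) (h j))
    (fun φ => τ.naturality (P.map φ))
  have e : τ.app c.pt = (IsColimit.coconePointsIsoOfNatIso hG hH w).hom := hG.hom_ext fun j => by
    rw [IsColimit.comp_coconePointsIsoOfNatIso_hom]
    exact τ.naturality (c.ι.app j)
  rw [e]
  infer_instance

variable (A : Type u) [Category.{v} A] [Abelian A] [IsGrothendieckAbelian.{v} A]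

theorem hasColimits_nat : HasColimitsOfShape (Discrete ℕ) A :=
  haveI := hasColimitsOfSizeShrink.{0, 0, v, v} A
  inferInstance

/-- Localization preserves countable coproducts of complexes. -/
theorem preservesQ [HasDerivedCategory.{w} A] :
    PreservesColimitsOfShape (Discrete ℕ) (DerivedCategory.Q (C := A)) := by
  let U : Discrete (ULift.{v} ℕ) ≌ Discrete ℕ := Discrete.equivalence Equiv.ulift
  haveI hQ : PreservesColimitsOfShape (Discrete (ULift.{v} ℕ)) (DerivedCategory.Q (C := A)) :=
    ⟨fun {F} => by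
      let P : ULift.{v} ℕ → CochainComplex A ℤ := fun i => F.obj ⟨i⟩
      haveI : PreservesColimit (Discrete.functor P) (DerivedCategory.Q (C := A)) :=
        preservesColimit_of_preserves_colimit_cocone (coproductIsCoproduct P)
          ((Cofan.isColimitMapCoconeEquiv _ _ (Cofan.mk (∐ P) (Sigma.ι P))).symm (KFlatLib.isColimit_Q_sigma P).some)
      exact @preservesColimit_of_iso_diagram _ _ _ _ _ _ (Discrete.functor P) F (DerivedCategory.Q (C := A))
        (Discrete.natIsoFunctor (F := F)).symm this⟩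
  exact preservesColimitsOfShape_of_equiv U _

end General

variable {A : Type u} [Category.{v} A] [Abelian A] [IsGrothendieckAbelian.{v} A] [HasDerivedCategory.{w} A]
  {B : Type u'} [Category.{v'} B] [Abelian B] [HasDerivedCategory.{w'} B]
  (F : A ⥤ B) [F.Additive] [PreservesFiniteLimits F]
  (RF : DerivedCategory A ⥤ DerivedCategory B)
  (α : F.mapHomotopyCategory (ComplexShape.up ℤ) ⋙ DerivedCategory.Qh ⟶ DerivedCategory.Qh ⋙ RF)
  [RF.IsRightDerivedFunctor α (HomotopyCategory.quasiIso A (ComplexShape.up ℤ))]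

omit [IsGrothendieckAbelian.{v} A] [PreservesFiniteLimits F]
  [RF.IsRightDerivedFunctor α (HomotopyCategory.quasiIso A (ComplexShape.up ℤ))] in
/-- The unit on complexes, as a natural transformation. -/
noncomputable def unitN :
    F.mapHomologicalComplex (ComplexShape.up ℤ) ⋙ DerivedCategory.Q ⟶ DerivedCategory.Q ⋙ RF where
  app M := DQCohEquivLib.unitQ F RF α M
  naturality M N φ := by
    have h1 := (DerivedCategory.quotientCompQhIso B).inv.naturality ((F.mapHomologicalComplex _).map φ)
    have h2 := α.naturality ((HomotopyCategory.quotient A (ComplexShape.up ℤ)).map φ)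
    have h3 := (DerivedCategory.quotientCompQhIso A).hom.naturality φ
    simp only [Functor.comp_map] at h1 h2 h3 ⊢
    simp only [DQCohEquivLib.unitQ, Category.assoc]
    rw [← Category.assoc, h1, Category.assoc]
    refine congrArg (_ ≫ ·) ((Category.assoc _ _ _).symm.trans ((congrArg (· ≫ _) h2).trans ?_))
    rw [Category.assoc, ← RF.map_comp, ← RF.map_comp]
    exact congrArg (fun z => _ ≫ RF.map z) h3

omit [PreservesFiniteLimits F] in
/-- The unit is invertible on K-injective complexes. -/
theorem isIso_unitN_of_isKInjective (I : CochainComplex A ℤ) [I.IsKInjective] :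
    IsIso ((unitN F RF α).app I) :=
  DQCohEquivLib.isIso_unitQ F RF α I (DerLib.KInjDerived.isIso_app RF α
    (fun K => by
      obtain ⟨J, f, hJ, hf, -⟩ := DerLib.KInjRes.exists_resolution K
      exact ⟨J, f, hJ, (HomologicalComplex.mem_quasiIso_iff _).1 hf.2⟩) I)

omit [PreservesFiniteLimits F] in
/-- The unit is invertible on a complex as soon as `F` preserves a resolution of it. -/
theorem isIso_unitN_of_resolution {K I : CochainComplex A ℤ} [I.IsKInjective] (i : K ⟶ I) [QuasiIso i]
    (h : QuasiIso ((F.mapHomologicalComplex (ComplexShape.up ℤ)).map i)) : IsIso ((unitN F RF α).app K) := by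
  haveI := isIso_unitN_of_isKInjective F RF α I
  haveI : IsIso (DerivedCategory.Q.map ((F.mapHomologicalComplex (ComplexShape.up ℤ)).map i)) :=
    (DerivedCategory.isIso_Q_map_iff_quasiIso _ _).2 h
  haveI : IsIso (DerivedCategory.Q.map i) := (DerivedCategory.isIso_Q_map_iff_quasiIso _ _).2 ‹_›
  have w := (unitN F RF α).naturality i
  simp only [Functor.comp_map] at w
  haveI : IsIso ((unitN F RF α).app K ≫ RF.map (DerivedCategory.Q.map i)) := by
    rw [← w]
    infer_instance
  exact IsIso.of_isIso_comp_right _ (RF.map (DerivedCategory.Q.map i))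

/-- The unit is invertible on bounded below complexes of acyclic objects. -/
theorem isIso_unitN_of_bddBelow (K : CochainComplex A ℤ) (a : ℤ) [K.IsStrictlyGE a]
    (hac : ∀ (n : ℤ) (i : ℕ), 0 < i → IsZero ((F.rightDerived i).obj (K.X n))) :
    IsIso ((unitN F RF α).app K) := by
  haveI : EnoughInjectives A := IsGrothendieckAbelian.enoughInjectives.{v}
  obtain ⟨I, i, hI, hinj, -, hi⟩ := DerLib.Horseshoe.exists_injective_resolution K a
  haveI := hI
  haveI := hinj
  haveI := hi
  haveI : I.IsKInjective := CochainComplex.isKInjective_of_injective I a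
  exact isIso_unitN_of_resolution F RF α i (SpSeqLib.quasiIso_map_of_isSAcyclic F i a
    (fun n => (SpSeqLib.isSAcyclic_iff _ _).2 (hac n)) (fun n => SpSeqLib.isSAcyclic_of_injective _ _))

section Telescope

omit [HasDerivedCategory.{w} A]

variable {M : CochainComplex A ℤ} {σ : ℕ → CochainComplex A ℤ} (ι : ∀ n, σ n ⟶ M)
  (t : ∀ n, σ n ⟶ σ (n + 1))

/-- The splitting of the telescope in one degree. -/
theorem exists_splitting [HasColimitsOfShape (Discrete ℕ) A]
    (hge : ∀ n : ℕ, (σ n).IsStrictlyGE (-(n : ℤ))) (hι : ∀ (n : ℕ) (i : ℤ), -(n : ℤ) ≤ i → IsIso ((ι n).f i))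
    (ht : ∀ n, t n ≫ ι (n + 1) = ι n)
    (sc : ShortComplex (CochainComplex A ℤ))
    (e₁ : sc = ShortComplex.mk (Sigma.desc fun n => Sigma.ι σ n - t n ≫ Sigma.ι σ (n + 1)) (Sigma.desc ι)
      (Sigma.hom_ext _ _ fun n => by
        rw [← Category.assoc, Sigma.ι_desc, Preadditive.sub_comp, Category.assoc, Sigma.ι_desc, Sigma.ι_desc, ht,
          sub_self, comp_zero]))
    (m : ℤ) : Nonempty (sc.map (eval A (ComplexShape.up ℤ) m)).Splitting := by
  classical
  subst e₁
  let E := eval A (ComplexShape.up ℤ) m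
  let f := (Sigma.desc fun n => Sigma.ι σ n - t n ≫ Sigma.ι σ (n + 1)).f m
  let g := (Sigma.desc ι).f m
  let c : IsColimit (Cofan.mk ((∐ σ).X m) fun n => (Sigma.ι σ n).f m : Cofan fun n => (σ n).X m) :=
    Cofan.isColimitMapCoconeEquiv E _ (Cofan.mk (∐ σ) (Sigma.ι σ)) (isColimitOfPreserves E (coproductIsCoproduct σ))
  have hz : ∀ n : ℕ, ¬ (-(n : ℤ) ≤ m) → IsZero ((σ n).X m) := fun n h =>
    haveI := hge n
    (σ n).isZero_of_isStrictlyGE (-(n : ℤ)) m (by omega)
  have hf : ∀ n : ℕ, (Sigma.ι σ n).f m ≫ f = (Sigma.ι σ n).f m - (t n).f m ≫ (Sigma.ι σ (n + 1)).f m := fun n => by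
    rw [← comp_f, Sigma.ι_desc]
    rfl
  have hg : ∀ n : ℕ, (Sigma.ι σ n).f m ≫ g = (ι n).f m := fun n => by
    rw [← comp_f, Sigma.ι_desc]
  let inc : ℕ → (M.X m ⟶ (∐ σ).X m) := fun n =>
    if h : -(n : ℤ) ≤ m then (haveI := hι n m h; inv ((ι n).f m) ≫ (Sigma.ι σ n).f m) else 0
  let H : ℕ → (M.X m ⟶ (∐ σ).X m) := fun n => n.rec 0 (fun k Hk => Hk - inc k)
  have hH : ∀ n, H (n + 1) = H n - inc n := fun n => rfl
  let N := (-m).toNat
  let r : M.X m ⟶ (∐ σ).X m := inc N
  have hinc : ∀ n : ℕ, (ι n).f m ≫ inc n = (Sigma.ι σ n).f m := fun n => by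
    by_cases h : -(n : ℤ) ≤ m
    · haveI := hι n m h
      simp only [inc, dif_pos h, IsIso.hom_inv_id_assoc]
    · exact (hz n h).eq_of_src _ _
  have h0 : ∀ n, n ≤ N → H n = 0 := by
    intro n
    induction n with
    | zero => exact fun _ => rfl
    | succ k ih =>
      intro hk
      rw [hH, ih (by omega), show inc k = 0 from dif_neg (by omega), sub_zero]
  have hincf : ∀ n : ℕ, -(n : ℤ) ≤ m → inc n ≫ f = inc n - inc (n + 1) := by
    intro n h
    haveI := hι n m h
    haveI := hι (n + 1) m (by omega)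
    rw [← cancel_epi ((ι n).f m), Preadditive.comp_sub, ← Category.assoc, hinc, hf, ← ht n, comp_f, Category.assoc,
      hinc]
  have h1 : ∀ n, N ≤ n → H n ≫ f = inc n - r := by
    intro n hn
    induction n, hn using Nat.le_induction with
    | base => rw [h0 N le_rfl, zero_comp, sub_self]
    | succ k hk ih =>
      rw [hH, Preadditive.sub_comp, ih, hincf k (by omega)]
      abel
  let h : (∐ σ).X m ⟶ (∐ σ).X m := Cofan.IsColimit.desc c fun n => (ι n).f m ≫ H n
  have hh : ∀ n, (Sigma.ι σ n).f m ≫ h = (ι n).f m ≫ H n := fun n => Cofan.IsColimit.fac c _ n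
  refine ⟨{ r := h, s := r, f_r := ?_, s_g := ?_, id := ?_ }⟩
  · refine Cofan.IsColimit.hom_ext c _ _ fun n => ?_
    show (Sigma.ι σ n).f m ≫ f ≫ h = (Sigma.ι σ n).f m ≫ 𝟙 _
    rw [← Category.assoc, hf, Preadditive.sub_comp, Category.assoc, hh, hh, ← Category.assoc ((t n).f m), ← comp_f,
      ht, hH, Preadditive.comp_sub, sub_sub_cancel, hinc, Category.comp_id]
  · show r ≫ g = 𝟙 _
    haveI := hι N m (by omega)
    rw [← cancel_epi ((ι N).f m), ← Category.assoc, hinc, hg, Category.comp_id]
  · refine Cofan.IsColimit.hom_ext c _ _ fun n => ?_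
    show (Sigma.ι σ n).f m ≫ (h ≫ f + g ≫ r) = (Sigma.ι σ n).f m ≫ 𝟙 _
    rw [Preadditive.comp_add, ← Category.assoc, hh, Category.assoc, ← Category.assoc ((Sigma.ι σ n).f m) g, hg,
      Category.comp_id]
    by_cases hn : -(n : ℤ) ≤ m
    · rw [h1 n (by omega), Preadditive.comp_sub, hinc, sub_add_cancel]
    · exact (hz n hn).eq_of_src _ _

end Telescope

/-- The transition maps between stupid truncations. -/
theorem exists_tower (M : CochainComplex A ℤ) :
    ∃ (σ : ℕ → CochainComplex A ℤ) (ι : ∀ n, σ n ⟶ M) (t : ∀ n, σ n ⟶ σ (n + 1)),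
      (∀ n : ℕ, (σ n).IsStrictlyGE (-(n : ℤ))) ∧ (∀ (n : ℕ) (i : ℤ), -(n : ℤ) ≤ i → IsIso ((ι n).f i)) ∧
      ∀ n, t n ≫ ι (n + 1) = ι n := by
  classical
  choose σ ι hge hι using fun n : ℕ => QRlimLib.exists_brutal M (-(n : ℤ))
  have hz : ∀ (n : ℕ) (i : ℤ), ¬ (-(n : ℤ) ≤ i) → IsZero ((σ n).X i) := fun n i h =>
    haveI := hge n
    (σ n).isZero_of_isStrictlyGE (-(n : ℤ)) i (by omega)
  let tf : ∀ (n : ℕ) (i : ℤ), (σ n).X i ⟶ (σ (n + 1)).X i := fun n i =>
    if h : -((n + 1 : ℕ) : ℤ) ≤ i then (haveI := hι (n + 1) i h; (ι n).f i ≫ inv ((ι (n + 1)).f i)) else 0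
  have htf : ∀ (n : ℕ) (i : ℤ), tf n i ≫ (ι (n + 1)).f i = (ι n).f i := fun n i => by
    by_cases h : -((n + 1 : ℕ) : ℤ) ≤ i
    · haveI := hι (n + 1) i h
      simp only [tf, dif_pos h, Category.assoc, IsIso.inv_hom_id, Category.comp_id]
    · exact (hz n i (by omega)).eq_of_src _ _
  refine ⟨σ, ι, fun n => { f := tf n, comm' := fun i j hij => ?_ }, hge, hι, fun n => HomologicalComplex.hom_ext _ _ (htf n)⟩
  by_cases h : -((n + 1 : ℕ) : ℤ) ≤ j
  · haveI := hι (n + 1) j h
    rw [← cancel_mono ((ι (n + 1)).f j), Category.assoc, Category.assoc, ← Hom.comm, ← Category.assoc, htf, htf,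
      Hom.comm]
  · have : i + 1 = j := hij
    exact (hz n i (by omega)).eq_of_src _ _

variable [HasColimitsOfShape (Discrete ℕ) A] [HasColimitsOfShape (Discrete ℕ) B]
  [PreservesColimitsOfShape (Discrete ℕ) F] [PreservesColimitsOfShape (Discrete ℕ) (DerivedCategory.Q (C := B))]
  [PreservesColimitsOfShape (Discrete ℕ) RF]

include RF α in
/-- Exact complexes of acyclic objects stay exact. -/
theorem acyclic_map (M : CochainComplex A ℤ) (hM : M.Acyclic)
    (hac : ∀ (n : ℤ) (i : ℕ), 0 < i → IsZero ((F.rightDerived i).obj (M.X n))) :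
    ((F.mapHomologicalComplex (ComplexShape.up ℤ)).obj M).Acyclic := by
  obtain ⟨σ, ι, t, hge, hι, ht⟩ := exists_tower M
  haveI := hge
  haveI := preservesQ A
  let T : A ⥤ B := F
  let FC := F.mapHomologicalComplex (ComplexShape.up ℤ)
  let f : (∐ σ) ⟶ (∐ σ) := Sigma.desc fun n => Sigma.ι σ n - t n ≫ Sigma.ι σ (n + 1)
  let sc : ShortComplex (CochainComplex A ℤ) := ShortComplex.mk f (Sigma.desc ι)
    (Sigma.hom_ext _ _ fun n => by
      rw [← Category.assoc, Sigma.ι_desc, Preadditive.sub_comp, Category.assoc, Sigma.ι_desc, Sigma.ι_desc, ht,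
        sub_self, comp_zero])
  let s := fun m => (exists_splitting ι t hge hι ht sc rfl m).some
  have hS : sc.ShortExact := HomologicalComplex.shortExact_of_degreewise_shortExact _ fun m => (s m).shortExact
  have hFS : (sc.map FC).ShortExact := HomologicalComplex.shortExact_of_degreewise_shortExact _ fun m =>
    ((s m).map F).shortExact
  have hfq : QuasiIso f := ⟨fun q => by
    rw [quasiIsoAt_iff_isIso_homologyMap]
    haveI : Mono (homologyMap f q) :=
      (hS.homology_exact₁ (q - 1) q (by simp)).mono_g ((hM (q - 1)).isZero_homology.eq_of_src _ _)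
    haveI : Epi (homologyMap f q) :=
      (hS.homology_exact₂ q).epi_f ((hM q).isZero_homology.eq_of_tgt _ _)
    exact isIso_of_mono_of_epi _⟩
  let cσ := Cofan.mk (∐ σ) (Sigma.ι σ)
  haveI hu : IsIso ((unitN F RF α).app (∐ σ)) := by
    refine isIso_app_of_isColimit (unitN F RF α) (c := cσ) (isColimitOfPreserves _ (coproductIsCoproduct σ))
      (isColimitOfPreserves _ (coproductIsCoproduct σ)) fun n => ?_
    refine isIso_unitN_of_bddBelow F RF α (σ n.as) (-(n.as : ℤ)) fun i k hk => ?_
    by_cases h : -(n.as : ℤ) ≤ i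
    · haveI := hι n.as i h
      exact (hac i k hk).of_iso ((F.rightDerived k).mapIso (asIso ((ι n.as).f i)))
    · obtain ⟨j, rfl⟩ := Nat.exists_eq_succ_of_ne_zero hk.ne'
      haveI : Injective ((σ n.as).X i) := ((σ n.as).isZero_of_isStrictlyGE (-(n.as : ℤ)) i (by omega)).injective
      exact F.isZero_rightDerived_obj_injective_succ j _
  haveI : IsIso (DerivedCategory.Q.map f) := (DerivedCategory.isIso_Q_map_iff_quasiIso _ _).2 hfq
  have hFf : IsIso (DerivedCategory.Q.map (FC.map f)) := by
    have w := (unitN F RF α).naturality f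
    simp only [Functor.comp_map] at w
    haveI : IsIso (DerivedCategory.Q.map (FC.map f) ≫ (unitN F RF α).app (∐ σ)) := by
      rw [w]
      infer_instance
    exact IsIso.of_isIso_comp_right _ ((unitN F RF α).app (∐ σ))
  haveI hFq : QuasiIso (FC.map f) := (DerivedCategory.isIso_Q_map_iff_quasiIso _ _).1 hFf
  intro q
  rw [exactAt_iff_isZero_homology]
  have hg0 : homologyMap (sc.map FC).g q = 0 := by
    rw [← cancel_epi (homologyMap (FC.map f) q), comp_zero]
    exact (homologyMap_comp _ _ q).symm.trans ((congrArg (fun z => homologyMap z q) (sc.map FC).zero).trans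
      (homologyMap_zero _ _ q))
  have hd0 : hFS.δ q (q + 1) (by simp) = 0 := by
    rw [← cancel_mono (homologyMap (FC.map f) (q + 1)), zero_comp]
    exact hFS.δ_comp q (q + 1) (by simp)
  exact (hFS.homology_exact₃ q (q + 1) (by simp)).isZero_of_both_zeros hg0 hd0

/-- The unit is invertible on every complex of acyclic objects. -/
theorem isIso_unit (K : CochainComplex A ℤ)
    (hK : ∀ (m : ℤ) (i : ℕ), 0 < i → IsZero ((F.rightDerived i).obj (K.X m))) :
    IsIso (α.app ((HomotopyCategory.quotient A (ComplexShape.up ℤ)).obj K)) := by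
  obtain ⟨I, i, hI, hi, hinj⟩ := DerLib.KInjRes.exists_resolution K
  haveI := hI
  haveI : QuasiIso i := (HomologicalComplex.mem_quasiIso_iff _).1 hi.2
  haveI : EnoughInjectives A := IsGrothendieckAbelian.enoughInjectives.{v}
  have hcone : (CochainComplex.mappingCone i).Acyclic := by
    rw [← HomotopyCategory.quotient_obj_mem_subcategoryAcyclic_iff_acyclic]
    refine ((HomotopyCategory.subcategoryAcyclic A).trW_iff_of_distinguished _
      (HomotopyCategory.mappingCone_triangleh_distinguished i)).1 ?_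
    rw [← HomotopyCategory.quasiIso_eq_trW_subcategoryAcyclic]
    exact (HomotopyCategory.quotient_map_mem_quasiIso_iff i).2 (by simpa using (inferInstance : QuasiIso i))
  have hterms : ∀ (m : ℤ) (k : ℕ), 0 < k → IsZero ((F.rightDerived k).obj ((CochainComplex.mappingCone i).X m)) :=
    fun m k hk => by
      haveI := hinj m
      refine IsZero.of_iso ?_ ((F.rightDerived k).mapIso (homotopyCofiber.XIsoBiprod i m (m + 1) rfl))
      exact (SpSeqLib.isSAcyclic_iff F _).1 (SpSeqLib.IsSAcyclic.biprod F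
        ((SpSeqLib.isSAcyclic_iff F _).2 (hK (m + 1))) (SpSeqLib.isSAcyclic_of_injective F (I.X m))) k hk
  have h' : QuasiIso ((F.mapHomologicalComplex (ComplexShape.up ℤ)).map i) :=
    DerLib.LerayAcyclic.quasiIso_map_of_acyclic F i (acyclic_map F RF α _ hcone hterms)
  have h := isIso_unitN_of_resolution F RF α i h'
  have e : α.app ((HomotopyCategory.quotient A (ComplexShape.up ℤ)).obj K) =
      (DerivedCategory.quotientCompQhIso B).hom.app ((F.mapHomologicalComplex (ComplexShape.up ℤ)).obj K) ≫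
        (unitN F RF α).app K ≫ RF.map ((DerivedCategory.quotientCompQhIso A).inv.app K) := by
    show _ = _ ≫ DQCohEquivLib.unitQ F RF α K ≫ _
    simp only [DQCohEquivLib.unitQ, Category.assoc, ← RF.map_comp, Iso.hom_inv_id_app]
    erw [Iso.hom_inv_id_app_assoc, RF.map_id, Category.comp_id]
  rw [e]
  exact IsIso.comp_isIso' inferInstance (IsIso.comp_isIso' h inferInstance)

end Groth.Agent.AcycSumLib
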